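import Mathlib
import Groth.Agent.Lib.Helper8.Japanese.HensNag2
import Groth.Agent.Lib.Helper8.NormalHomComp

namespace Groth.Agent.H8.GNHens
open TensorProduct
open Groth.Agent.H8.GNorm Groth.Agent.H8.NHC
universe u

/-- Normality passes to a quotient `R → R'` whose kernel is locally zero at the primes containing
it. -/
theorem normalLoc_of_surjective {R R' : Type u} [CommRing R] [CommRing R'] (π : R →+* R')
    (hπ : Function.Surjective π)
    (hker : ∀ (P : Ideal R) [P.IsPrime], RingHom.ker π ≤ P → ∀ x ∈ RingHom.ker π,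
      ∃ f, f ∉ P ∧ f * x = 0)
    (h : NormalLoc R) : NormalLoc R' := by
  intro Q _
  let P : Ideal R := Q.comap π
  haveI : P.IsPrime := Ideal.comap_isPrime _ _
  have hkerP : RingHom.ker π ≤ P := fun x hx => by
    show π x ∈ Q
    rw [(RingHom.mem_ker).mp hx]; exact Q.zero_mem
  let Φ := Localization.localRingHom P Q π rfl
  have hsurj : Function.Surjective Φ := by
    intro y
    obtain ⟨r', s', rfl⟩ := IsLocalization.exists_mk'_eq Q.primeCompl y
    obtain ⟨r, rfl⟩ := hπ r'
    obtain ⟨s, hs⟩ := hπ s'.1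
    have hsP : s ∈ P.primeCompl := by
      show s ∉ P
      intro hmem
      have : π s ∈ Q := hmem
      rw [hs] at this
      exact s'.2 this
    refine ⟨IsLocalization.mk' _ r ⟨s, hsP⟩, ?_⟩
    rw [Localization.localRingHom_mk']
    congr 1
    exact Subtype.ext hs
  have hinj : Function.Injective Φ := by
    rw [injective_iff_map_eq_zero]
    intro x hx
    obtain ⟨r, s, rfl⟩ := IsLocalization.exists_mk'_eq P.primeCompl x
    rw [Localization.localRingHom_mk', IsLocalization.mk'_eq_zero_iff] at hx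
    obtain ⟨m, hm⟩ := hx
    obtain ⟨u, hu⟩ := hπ m.1
    have huP : u ∉ P := by
      intro hmem
      have : π u ∈ Q := hmem
      rw [hu] at this
      exact m.2 this
    have h1 : u * r ∈ RingHom.ker π := by
      rw [RingHom.mem_ker, map_mul, hu]; exact hm
    obtain ⟨f, hfP, hf⟩ := hker P hkerP _ h1
    rw [IsLocalization.mk'_eq_zero_iff]
    refine ⟨⟨f * u, ?_⟩, ?_⟩
    · show f * u ∉ P
      intro hmem
      rcases (‹P.IsPrime›.mem_or_mem hmem) with h | h
      · exact hfP h
      · exact huP h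
    · show f * u * r = 0
      rw [mul_assoc]; exact hf
  let E : Localization.AtPrime P ≃+* Localization.AtPrime Q := RingEquiv.ofBijective Φ ⟨hinj, hsurj⟩
  obtain ⟨h1, h2⟩ := h P
  exact ⟨E.symm.toMulEquiv.isDomain _, IsIntegrallyClosed.of_equiv E⟩

end Groth.Agent.H8.GNHens

namespace Groth.Agent.H8.GNHens
open TensorProduct
open Groth.Agent.H8.GNorm Groth.Agent.H8.NHC
universe u

/-- If `K ⊗[A] B` is absolutely flat and `K ⊗[A] C` is normal, then `K ⊗[B] C` is normal
(it is a localization of `K ⊗[A] C`). -/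
theorem normalLoc_tensor_of_absFlat (A B C K : Type u) [CommRing A] [CommRing B] [CommRing C]
    [Field K] [Algebra A B] [Algebra B C] [Algebra A C] [IsScalarTower A B C] [Algebra B K]
    [Algebra A K] [IsScalarTower A B K]
    (hT : ∀ t : K ⊗[A] B, ∃ s : K ⊗[A] B, t = t * t * s) (hN : NormalLoc (K ⊗[A] C)) :
    NormalLoc (K ⊗[B] C) := by
  let φ : K ⊗[A] B →ₐ[K] K ⊗[A] C :=
    Algebra.TensorProduct.map (AlgHom.id K K) (IsScalarTower.toAlgHom A B C)
  let μ : K ⊗[A] B →ₐ[K] K :=
    Algebra.TensorProduct.lift (AlgHom.id K K) (IsScalarTower.toAlgHom A B K)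
      (fun _ _ => Commute.all _ _)
  let n : Ideal (K ⊗[A] B) := RingHom.ker μ.toRingHom
  let π : K ⊗[A] C →ₐ[K] K ⊗[B] C :=
    Algebra.TensorProduct.lift (Algebra.TensorProduct.includeLeft)
      ((Algebra.TensorProduct.includeRight : C →ₐ[B] K ⊗[B] C).restrictScalars A)
      (fun _ _ => Commute.all _ _)
  have hπ_tmul : ∀ (k : K) (c : C), π (k ⊗ₜ[A] c) = k ⊗ₜ[B] c := by
    intro k c
    simp [π]
  have hπ_surj : Function.Surjective π := by
    intro x
    induction x using TensorProduct.induction_on with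
    | zero => exact ⟨0, map_zero _⟩
    | tmul k c => exact ⟨k ⊗ₜ c, hπ_tmul k c⟩
    | add x y hx hy =>
      obtain ⟨a, rfl⟩ := hx
      obtain ⟨b, rfl⟩ := hy
      exact ⟨a + b, map_add _ _ _⟩
  -- the inverse map
  let E := (K ⊗[A] C) ⧸ n.map φ.toRingHom
  have hkey : ∀ b : B, Ideal.Quotient.mk (n.map φ.toRingHom) ((algebraMap B K b) ⊗ₜ[A] (1 : C)) =
      Ideal.Quotient.mk (n.map φ.toRingHom) ((1 : K) ⊗ₜ[A] (algebraMap B C b)) := by
    intro b
    rw [Ideal.Quotient.eq]
    have h1 : (algebraMap B K b) ⊗ₜ[A] (1 : C) - (1 : K) ⊗ₜ[A] (algebraMap B C b) =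
        φ ((algebraMap B K b) ⊗ₜ[A] (1 : B) - (1 : K) ⊗ₜ[A] b) := by
      simp [φ]
    rw [h1]
    apply Ideal.mem_map_of_mem
    show μ _ = 0
    simp [μ]
  let f : K →ₐ[B] E :=
    { toRingHom := (Ideal.Quotient.mk (n.map φ.toRingHom)).comp
        (Algebra.TensorProduct.includeLeftRingHom)
      commutes' := fun b => rfl }
  let g : C →ₐ[B] E :=
    { toRingHom := (Ideal.Quotient.mk (n.map φ.toRingHom)).comp
        (Algebra.TensorProduct.includeRight : C →ₐ[A] K ⊗[A] C).toRingHom
      commutes' := fun b => (hkey b).symm }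
  let ψ : K ⊗[B] C →ₐ[B] E := Algebra.TensorProduct.lift f g (fun _ _ => Commute.all _ _)
  have hψπ : ∀ d : K ⊗[A] C, ψ (π d) = Ideal.Quotient.mk _ d := by
    intro d
    induction d using TensorProduct.induction_on with
    | zero => rw [map_zero, map_zero, map_zero]
    | tmul k c =>
      rw [hπ_tmul]
      simp only [ψ, Algebra.TensorProduct.lift_tmul]
      show Ideal.Quotient.mk _ (k ⊗ₜ[A] (1 : C)) * Ideal.Quotient.mk _ ((1 : K) ⊗ₜ[A] c) = _
      rw [← map_mul, Algebra.TensorProduct.tmul_mul_tmul, mul_one, one_mul]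
    | add x y hx hy => rw [map_add, map_add, hx, hy, map_add]
  have hker_le : RingHom.ker π.toRingHom ≤ n.map φ.toRingHom := by
    intro d hd
    have hd' : π d = 0 := hd
    rw [← Ideal.Quotient.eq_zero_iff_mem, ← hψπ, hd', map_zero]
  refine normalLoc_of_surjective π.toRingHom hπ_surj (fun P _ hP x hx => ?_) hN
  -- every element of `n.map φ` dies in the localization at `P`
  have hle : n.map φ.toRingHom ≤ RingHom.ker (algebraMap (K ⊗[A] C) (Localization.AtPrime P)) := by
    rw [Ideal.map_le_iff_le_comap]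
    intro t ht
    rw [Ideal.mem_comap, RingHom.mem_ker]
    obtain ⟨s, hs⟩ := hT t
    -- idempotent `e = t * s`
    have he : (t * s) * (t * s) = t * s := by
      calc (t * s) * (t * s) = (t * t * s) * s := by ring
        _ = t * s := by rw [← hs]
    have hen : t * s ∈ n := Ideal.mul_mem_right _ _ ht
    have heP : φ (t * s) ∈ P := by
      apply hP
      show π (φ (t * s)) = 0
      have h0 : Ideal.Quotient.mk (n.map φ.toRingHom) (φ (t * s)) = 0 :=
        Ideal.Quotient.eq_zero_iff_mem.mpr (Ideal.mem_map_of_mem _ hen)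
      -- use surjectivity of π and ψ ∘ π = mk to get π (φ (t*s)) = 0 directly
      have hμ : μ (t * s) = 0 := hen
      -- π ∘ φ = μ ⊗ 1
      have hπφ : ∀ t : K ⊗[A] B, π (φ t) = (μ t) ⊗ₜ[B] (1 : C) := by
        intro t
        induction t using TensorProduct.induction_on with
        | zero => simp
        | tmul k b =>
          simp only [φ, μ, Algebra.TensorProduct.map_tmul, AlgHom.coe_id, id_eq,
            IsScalarTower.coe_toAlgHom', Algebra.TensorProduct.lift_tmul, hπ_tmul]
          rw [Algebra.algebraMap_eq_smul_one b, ← TensorProduct.smul_tmul, Algebra.smul_def,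
            mul_comm]
        | add x y hx hy => rw [map_add, map_add, hx, hy, map_add, TensorProduct.add_tmul]
      rw [hπφ, hμ, TensorProduct.zero_tmul]
    have h1P : (1 - φ (t * s)) ∉ P := by
      intro h1
      have : (1 : K ⊗[A] C) ∈ P := by
        have := P.add_mem h1 heP
        rwa [sub_add_cancel] at this
      exact ‹P.IsPrime›.ne_top ((Ideal.eq_top_iff_one _).mpr this)
    have hkill : (1 - φ (t * s)) * φ t = 0 := by
      rw [sub_mul, one_mul, ← map_mul, sub_eq_zero]
      congr 1
      calc t = t * t * s := hs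
        _ = t * s * t := by ring
    show algebraMap (K ⊗[A] C) (Localization.AtPrime P) (φ t) = 0
    have hu : IsUnit (algebraMap (K ⊗[A] C) (Localization.AtPrime P) (1 - φ (t * s))) :=
      IsLocalization.map_units (Localization.AtPrime P) (⟨_, h1P⟩ : P.primeCompl)
    have := congrArg (algebraMap (K ⊗[A] C) (Localization.AtPrime P)) hkill
    rw [map_mul, map_zero] at this
    exact hu.mul_right_eq_zero.mp this
  have hx0 : algebraMap (K ⊗[A] C) (Localization.AtPrime P) x = 0 := hle (hker_le hx)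
  obtain ⟨m, hm⟩ := (IsLocalization.map_eq_zero_iff P.primeCompl (Localization.AtPrime P) x).mp hx0
  exact ⟨m.1, m.2, hm⟩

end Groth.Agent.H8.GNHens
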